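import Cfsg.Agent.Lib.J2.Order
import Cfsg.Agent.Lib.FusionSimple2.Codes
import Cfsg.Agent.Lib.J2Fus.Data

/-!
# Kernel checks for the `2`-fusion system of the Hall–Janko group
-/

set_option autoImplicit false
set_option maxRecDepth 100000

namespace Cfsg.Agent.Lib.J2Fus

open Cfsg.Agent.Lib.J2 Cfsg.Agent.Lib.PermComp.Core TabData Cfsg.Agent.Lib.J2.Cert315
open Cfsg.Agent.Lib.FusionSimple2.Codes

/-- The code of a word in the generators. -/
noncomputable def wcF : List ℕ → ℕ
  | [] => c_idc
  | a :: u => force (wcF u) fun q => comp 315 9 511 (nthN T315 a) q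

/-- The code of the conjugate. -/
noncomputable def cjc (w : List ℕ) (a : ℕ) : ℕ :=
  comp 315 9 511 (comp 315 9 511 (wcF w) a) (wcF w.reverse)

/-- A valid word with inverse given by the reversed word. -/
noncomputable def wOK (w : List ℕ) : Bool :=
  ifB (allL (fun a => Nat.blt a 4) w) (Nat.beq (comp 315 9 511 (wcF w.reverse) (wcF w)) c_idc)

/-- The points. -/
noncomputable def rng315 : List ℕ := List.range 315

/-- The fixed points of the central involution. -/
noncomputable def F11P : List ℕ := F11W.map Prod.fst

/-- One entry of `F11W`. -/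
noncomputable def f11Entry (e : ℕ × List ℕ) : Bool :=
  ifB (wOK e.2) <| ifB (Nat.beq (app 9 511 (wcF e.2) 86) e.1) <|
  ifB (Nat.beq (app 9 511 pc0 e.1) e.1) <| ifB (Nat.blt e.1 315) <|
  force (cjc e.2 pc0) fun c => ifB (memN c L0) <|
    orC (Nat.beq e.1 86) (anyL (fun x => neB (app 9 511 c x) (app 9 511 pc0 x)) rng315)

theorem chk_F11 : allL f11Entry F11W = true := by decide +kernel

theorem chk_F11b : allL (fun x => orC (neB (app 9 511 pc0 x) x) (memN x F11P)) rng315 = true := by
  decide +kernel

theorem chk_L0 : eqL L0 (prodL 315 9 511 c_idc sgens) = true := by decide +kernel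

theorem chk_clos : closOK 315 9 511 L0 sgens = true := by decide +kernel

/-- The key points. -/
def kpts : List ℕ := [0, 1, 2]

theorem chk_key : nodupN (L0.map (keyOf 9 511 kpts)) = true := by decide +kernel

theorem chk_cent : centOK 9 511 c_idc pc0 sgens rng315 L0 = true := by decide +kernel

theorem chk_comm : allL (fun a => Nat.beq (comp 315 9 511 pc0 a) (comp 315 9 511 a pc0)) sgens = true := by
  decide +kernel

theorem chk_fix : allL (fun c => Nat.beq (app 9 511 c 86) 86) L0 = true := by decide +kernel

theorem chk_uniq : allL (fun x => orC (Nat.beq x 86) (anyL (fun a => neB (app 9 511 a x) x) sgens))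
    rng315 = true := by decide +kernel

theorem chk_B1 : allL (fun c => orC (Nat.beq (app 9 511 c 105) 105) (Nat.beq (app 9 511 c 105) 293)) L0
    = true := by decide +kernel

/-- Three points in the orbit of `x`. -/
noncomputable def threeOK (x : ℕ) : Bool :=
  anyL (fun c => force (app 9 511 c x) fun v => ifB (neB v x)
    (anyL (fun d => force (app 9 511 d x) fun u => ifB (neB u x) (neB u v)) L0)) L0

theorem chk_B2 : allL (fun x => orC (Nat.beq x 86) (orC (Nat.beq x 105) (orC (Nat.beq x 293) (threeOK x))))
    rng315 = true := by decide +kernel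

theorem chk_y1 : y1c = wcF y1w := by decide +kernel
theorem chk_y2 : y2c = wcF y2w := by decide +kernel

/-- A word of letters less than four. -/
noncomputable def lettersOK (w : List ℕ) : Bool := allL (fun a => Nat.blt a 4) w

theorem chk_yw : ifB (lettersOK y1w) (lettersOK y2w) = true := by decide +kernel

theorem chk_t : Nat.beq tc (comp 315 9 511 y1c y2c) = true := by decide +kernel

theorem chk_t3 : Nat.beq (comp 315 9 511 tc (comp 315 9 511 tc tc)) c_idc = true := by decide +kernel

/-- The fifth power. -/
noncomputable def p5 (c : ℕ) : ℕ :=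
  comp 315 9 511 c (comp 315 9 511 c (comp 315 9 511 c (comp 315 9 511 c c)))

theorem chk_y5 : ifB (Nat.beq (p5 y1c) c_idc) (Nat.beq (p5 y2c) c_idc) = true := by decide +kernel

theorem chk_fix' : ifB (Nat.beq (app 9 511 y1c 86) 86) (Nat.beq (app 9 511 y2c 86) 86) = true := by
  decide +kernel

theorem chk_tS : allL (fun a => memN (comp 315 9 511 (comp 315 9 511 tc a) (comp 315 9 511 tc tc)) L0) sgens
    = true := by decide +kernel

theorem chk_tnot : allL (fun c => neB (keyOf 9 511 kpts c) (keyOf 9 511 kpts tc)) L0 = true := by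
  decide +kernel

theorem chk_C : allL (fun c => ifB (anyL (fun p => neB (app 9 511 c p) (app 9 511 tc p)) F11P)
    (anyL (fun p => neB (app 9 511 tc (app 9 511 c p)) p) F11P)) L0 = true := by decide +kernel

/-- Powers of the element of order five. -/
noncomputable def mcode (k : ℕ) : ℕ := Nat.rec c_idc (fun _ ih => comp 315 9 511 y1c ih) k

theorem chk_m : allL (fun k => allL (fun l => orC (Nat.beq k l)
    (ifB (neB (app 9 511 (mcode l) 105) (app 9 511 (mcode k) 105))
      (neB (app 9 511 (mcode l) 105) (app 9 511 (mcode k) 293)))) (List.range 5)) (List.range 5) = true := by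
  decide +kernel

/-- The word of the point `93`. -/
def wa : List ℕ := [2]
/-- The word of the point `98`. -/
def wb : List ℕ := [2, 0, 1, 2]

/-- The element of order four. -/
noncomputable def xc : ℕ := comp 315 9 511 (cjc wa pc0) (cjc wb pc0)

theorem chk_w : (93, wa) ∈ F11W ∧ (98, wb) ∈ F11W := by decide

/-- Known elements of the strongly closed subgroup. -/
noncomputable def known : List ℕ := F11W.map (fun e => cjc e.2 pc0) ++ [cjc w1 xc, cjc w2 xc]

theorem chk_chain : ifB (wOK w1) (ifB (wOK w2) (ifB (memN (cjc w1 xc) L0) (ifB (memN (cjc w2 xc) L0)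
    (allL (fun a => memN a known) sgens)))) = true := by decide +kernel

end Cfsg.Agent.Lib.J2Fus
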